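import Mathlib
import Groth.Prelude.Def_CohB1
import Groth.Agent.Lib.Helper1.FPA13
import Groth.Agent.Lib.Helper1.FPA14
import Groth.Agent.Lib.Helper1.PushQc
import Groth.Agent.Lib.Helper4.LimHomF
import Groth.Agent.Lib.Helper4.ClBridge4
import Groth.Agent.Lib.Helper3.KerFP6
import Groth.Agent.Lib.Lead.LimZ4

set_option linter.style.haveILetI false
set_option linter.unusedVariables false
set_option linter.unusedSectionVars false
set_option autoImplicit false
set_option backward.isDefEq.respectTransparency.types false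
set_option synthInstance.maxHeartbeats 400000
set_option maxHeartbeats 1600000

universe u

/-! helper7: descent of finitely presented quasi-coherent modules and of their finitely presented quotients to a finite stage of a cofiltered limit of schemes with affine transition maps (via direct images, filtered colimits of finitely presented modules and descent of homomorphisms) -/

open CategoryTheory CategoryTheory.Limits AlgebraicGeometry

namespace Groth.Agent.Helper7.ModDesc

/-- a quasi-coherent module of finite type on the source of an affine morphism to a quasi-compact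
quasi-separated scheme is a quotient of the pullback of a finitely presented module. -/
theorem exists_fp_pullback_epi {S S₀ : Scheme.{u}} (π : S ⟶ S₀) [IsAffineHom π] [CompactSpace S₀]
    [QuasiSeparatedSpace S₀] (F : S.Modules) [F.IsQuasicoherent] (hF : CohB1.IsFT F) :
    ∃ (G : S₀.Modules) (p : (Scheme.Modules.pullback π).obj G ⟶ F), CohB1.IsFP G ∧ Epi p := by
  haveI : CompactSpace S := QuasiCompact.compactSpace_of_compactSpace π
  haveI hP : ((Scheme.Modules.pushforward π).obj F).IsQuasicoherent :=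
    Groth.Agent.Helper1.PushQc.isQuasicoherent_pushforward π F
  obtain ⟨J, _, _, Dg, cg, hcg, hfp, hpt⟩ :=
    Groth.Agent.Helper1.FPA.exists_filtered_colimit_fp (F := (Scheme.Modules.pushforward π).obj F)
  obtain ⟨pt, ι⟩ := cg
  change pt = _ at hpt
  subst hpt
  haveI : PreservesColimit Dg (Scheme.Modules.pullback π) :=
    (Scheme.Modules.pullbackPushforwardAdjunction π).leftAdjoint_preservesColimits.preservesColimitsOfShape.preservesColimit
  let c' : Cocone (Dg ⋙ Scheme.Modules.pullback π) :=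
    (Scheme.Modules.pullback π).mapCocone ⟨_, ι⟩
  have hc' : IsColimit c' := isColimitOfPreserves (Scheme.Modules.pullback π) hcg
  haveI : c'.pt.IsQuasicoherent :=
    Groth.Agent.Lead.PB.isQuasicoherent_pullback π ((Scheme.Modules.pushforward π).obj F)
  haveI hepi : Epi ((Scheme.Modules.pullbackPushforwardAdjunction π).counit.app F) :=
    Groth.Agent.Lib.Helper4.ClBridge4.epi_counit_of_isAffineHom π F
  obtain ⟨j₀, hj₀⟩ := Groth.Agent.Helper1.FPA.exists_stage_epi c' hc' F hF
    ((Scheme.Modules.pullbackPushforwardAdjunction π).counit.app F)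
  exact ⟨Dg.obj j₀, _, hfp j₀, hj₀ j₀ ⟨𝟙 j₀⟩⟩

section Lim

variable {I : Type u} [SmallCategory I] [IsCofiltered I] (D : I ⥤ Scheme.{u}) (c : Cone D)
  (hc : IsLimit c) [∀ (i j : I) (f : i ⟶ j), IsAffineHom (D.map f)] (i₀ : I)
  [CompactSpace (D.obj i₀)] [QuasiSeparatedSpace (D.obj i₀)]

include hc in
/-- every quotient of finite presentation of the pullback of a finitely presented module to the
limit comes from a quotient of finite presentation at a finite stage. -/
theorem quotient_descend (F₀ : (D.obj i₀).Modules) [F₀.IsQuasicoherent] (hF₀ : CohB1.IsFP F₀)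
    {G : c.pt.Modules} [G.IsQuasicoherent] (hG : CohB1.IsFP G)
    (p : (Scheme.Modules.pullback (c.π.app i₀)).obj F₀ ⟶ G) [Epi p] :
    ∃ (j : I) (φ : j ⟶ i₀) (Gj : (D.obj j).Modules) (_ : Coh.IsQCoh Gj)
      (pj : (Scheme.Modules.pullback (D.map φ)).obj F₀ ⟶ Gj)
      (e : (Scheme.Modules.pullback (c.π.app j)).obj Gj ≅ G),
      CohB1.IsFP Gj ∧ Epi pj ∧
        ((Scheme.Modules.pullbackComp (c.π.app j) (D.map φ) ≪≫
          Scheme.Modules.pullbackCongr (c.w φ)).app F₀).inv ≫
          (Scheme.Modules.pullback (c.π.app j)).map pj ≫ e.hom = p := by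
  have : ∀ {i j : I} (f : i ⟶ j), IsAffineHom (D.map f) := fun f => inferInstance
  haveI hπ : IsAffineHom (c.π.app i₀) := isAffineHom_π_app D c hc i₀
  haveI : ((Scheme.Modules.pullback (c.π.app i₀)).obj F₀).IsQuasicoherent :=
    Groth.Agent.Lead.PB.isQuasicoherent_pullback (c.π.app i₀) F₀
  have hfp1 : CohB1.IsFP ((Scheme.Modules.pullback (c.π.app i₀)).obj F₀) :=
    Groth.Agent.Lead.LimZ.isFP_pullback (c.π.app i₀) F₀ hF₀
  have hft1 : CohB1.IsFT ((Scheme.Modules.pullback (c.π.app i₀)).obj F₀) := by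
    haveI := hfp1
    infer_instance
  haveI : (kernel p).IsQuasicoherent := Groth.Agent.Helper1.QcAbel.isQuasicoherent_kernel p
  have hKft : CohB1.IsFT (kernel p) := Groth.Agent.Lead.LimZ.isFT_kernel_of_epi hft1 hG p
  obtain ⟨G', q, hG', hq⟩ := exists_fp_pullback_epi (c.π.app i₀) (kernel p) hKft
  haveI := hq
  haveI : G'.IsQuasicoherent := Groth.Agent.Helper1.FPA.isQuasicoherent_of_isFP G' hG'
  obtain ⟨j, φ, hj, hhj⟩ := Groth.Agent.Lib.Helper4.LimHomF.S4811_main D c hc i₀ G' F₀ hG'
    (q ≫ kernel.ι p)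
  have hψp : (q ≫ kernel.ι p) ≫ p = 0 := by
    rw [Category.assoc, kernel.condition, comp_zero]
  have hcok : IsColimit (CokernelCofork.ofπ p hψp) :=
    isCokernelEpiComp (Abelian.epiIsCokernelOfKernel _ (kernelIsKernel p)) q rfl
  let e3 : cokernel (q ≫ kernel.ι p) ≅ G :=
    (cokernelIsCokernel (q ≫ kernel.ι p)).coconePointUniqueUpToIso hcok
  have h3 : cokernel.π (q ≫ kernel.ι p) ≫ e3.hom = p :=
    IsColimit.comp_coconePointUniqueUpToIso_hom (cokernelIsCokernel (q ≫ kernel.ι p)) hcok
      WalkingParallelPair.one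
  let αG' := (Scheme.Modules.pullbackComp (c.π.app j) (D.map φ) ≪≫
    Scheme.Modules.pullbackCongr (c.w φ)).app G'
  let αF := (Scheme.Modules.pullbackComp (c.π.app j) (D.map φ) ≪≫
    Scheme.Modules.pullbackCongr (c.w φ)).app F₀
  have hw : (Scheme.Modules.pullback (c.π.app j)).map hj ≫ αF.hom =
      αG'.hom ≫ (q ≫ kernel.ι p) := by
    rw [← hhj, Iso.hom_inv_id_assoc]
  let e2 : cokernel ((Scheme.Modules.pullback (c.π.app j)).map hj) ≅ cokernel (q ≫ kernel.ι p) :=
    cokernel.mapIso ((Scheme.Modules.pullback (c.π.app j)).map hj) (q ≫ kernel.ι p) αG' αF hw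
  have h2 : cokernel.π ((Scheme.Modules.pullback (c.π.app j)).map hj) ≫ e2.hom =
      αF.hom ≫ cokernel.π (q ≫ kernel.ι p) :=
    cokernel.π_desc _ _ _
  let e1 : (Scheme.Modules.pullback (c.π.app j)).obj (cokernel hj) ≅
      cokernel ((Scheme.Modules.pullback (c.π.app j)).map hj) :=
    PreservesCokernel.iso (Scheme.Modules.pullback (c.π.app j)) hj
  have h1 : (Scheme.Modules.pullback (c.π.app j)).map (cokernel.π hj) ≫ e1.hom =
      cokernel.π ((Scheme.Modules.pullback (c.π.app j)).map hj) :=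
    PreservesCokernel.π_iso_hom (Scheme.Modules.pullback (c.π.app j)) hj
  haveI hq1 : ((Scheme.Modules.pullback (D.map φ)).obj G').IsQuasicoherent :=
    Groth.Agent.Lead.PB.isQuasicoherent_pullback (D.map φ) G'
  haveI hq2 : ((Scheme.Modules.pullback (D.map φ)).obj F₀).IsQuasicoherent :=
    Groth.Agent.Lead.PB.isQuasicoherent_pullback (D.map φ) F₀
  have hGjq : Coh.IsQCoh (cokernel hj) := Groth.Agent.Helper1.QcAbel.isQuasicoherent_cokernel hj
  have hGjfp : CohB1.IsFP (cokernel hj) :=
    Groth.Agent.Helper3.KerFP.isFP_cokernel hj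
      (Groth.Agent.Lead.LimZ.isFP_pullback (D.map φ) F₀ hF₀)
      (Groth.Agent.Lead.LimZ.isFP_pullback (D.map φ) G' hG')
  refine ⟨j, φ, cokernel hj, hGjq, cokernel.π hj, e1 ≪≫ e2 ≪≫ e3, hGjfp, inferInstance, ?_⟩
  calc αF.inv ≫ (Scheme.Modules.pullback (c.π.app j)).map (cokernel.π hj) ≫ (e1 ≪≫ e2 ≪≫ e3).hom
      = αF.inv ≫ ((Scheme.Modules.pullback (c.π.app j)).map (cokernel.π hj) ≫ e1.hom) ≫
          e2.hom ≫ e3.hom := by
        simp only [Iso.trans_hom, Category.assoc]
    _ = αF.inv ≫ (cokernel.π ((Scheme.Modules.pullback (c.π.app j)).map hj) ≫ e2.hom) ≫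
          e3.hom := by
        rw [h1, Category.assoc]
    _ = αF.inv ≫ αF.hom ≫ cokernel.π (q ≫ kernel.ι p) ≫ e3.hom := by
        rw [h2, Category.assoc]
    _ = p := by
        rw [h3, Iso.inv_hom_id_assoc]

include hc in
/-- a quasi-coherent module of finite presentation on the limit is the pullback of one on a finite
stage. -/
theorem exists_descend (F : c.pt.Modules) [F.IsQuasicoherent] (hF : CohB1.IsFP F) :
    ∃ (i : I) (_ : i ⟶ i₀) (Fi : (D.obj i).Modules), Coh.IsQCoh Fi ∧ CohB1.IsFP Fi ∧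
      Nonempty ((Scheme.Modules.pullback (c.π.app i)).obj Fi ≅ F) := by
  have : ∀ {i j : I} (f : i ⟶ j), IsAffineHom (D.map f) := fun f => inferInstance
  haveI hπ : IsAffineHom (c.π.app i₀) := isAffineHom_π_app D c hc i₀
  have hFT : CohB1.IsFT F := by
    haveI := hF
    infer_instance
  obtain ⟨G, p, hG, hp⟩ := exists_fp_pullback_epi (c.π.app i₀) F hFT
  haveI := hp
  haveI : G.IsQuasicoherent := Groth.Agent.Helper1.FPA.isQuasicoherent_of_isFP G hG
  obtain ⟨j, φ, Gj, hq, pj, e, hfp, -, -⟩ := quotient_descend D c hc i₀ G hG hF p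
  exact ⟨j, φ, Gj, hq, hfp, ⟨e⟩⟩

end Lim

end Groth.Agent.Helper7.ModDesc
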